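import Mathlib
import Cfsg.Agent.H370.DE.Good

/-!
# `PΩ⁺(2n, q)`, `n ≥ 6` even (S3677): a large good divisor (helper370)
-/

set_option autoImplicit false

namespace Cfsg.Agent.H370.DE

open Finset Cfsg.Agent.H902 Cfsg.Agent.H902.Art Cfsg.Agent.H60.DE
open Cfsg.Agent.H364.SpVal (AA)

/-- the shape of the order -/
theorem num_D {n q : ℕ} (hn : 1 ≤ n) : num (.D n) q = (q ^ n - 1) * ∏ i ∈ range (n - 1), (q ^ (2 * (i + 1)) - 1) := by
  obtain ⟨k, rfl⟩ := Nat.exists_eq_add_of_le' hn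
  rfl

theorem prod_dvd {n q : ℕ} (s : Finset ℕ) (hs : ∀ i ∈ s, 1 ≤ i ∧ i < n) :
    (∏ i ∈ s, (q ^ (2 * i) - 1)) ∣ ∏ i ∈ range (n - 1), (q ^ (2 * (i + 1)) - 1) := by
  have h1 : ∏ i ∈ range (n - 1), (q ^ (2 * (i + 1)) - 1) = ∏ i ∈ Icc 1 (n - 1), (q ^ (2 * i) - 1) := by
    rw [Finset.range_eq_Ico, Finset.prod_Ico_add' (fun j => q ^ (2 * j) - 1) 0 (n - 1) 1]
    apply Finset.prod_congr _ (fun _ _ => rfl)
    ext x
    simp only [Finset.mem_Ico, Finset.mem_Icc]
    omega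
  rw [h1]
  apply Finset.prod_dvd_prod_of_subset
  intro i hi
  have := hs i hi
  rw [Finset.mem_Icc]
  omega

variable {n p f M d m MS I : ℕ}

theorem m_le (hD : Dat n p f M d m MS I) : 2 * m + 1 ≤ 3 * (p ^ f) ^ n := by
  have hq := hD.hY.q_ge
  have hn := hD.hn
  obtain ⟨q, hqq⟩ : ∃ q, p ^ f = q := ⟨_, rfl⟩
  obtain ⟨k, rfl⟩ : ∃ k, n = k + 1 := ⟨n - 1, by omega⟩
  have h := hD.num
  rw [hqq] at h hq ⊢
  rw [Cfsg.Agent.H60.DE.Num, Nat.add_sub_cancel] at h
  have hg : 1 ≤ Nat.gcd 4 (q ^ (k + 1) - 1) := Nat.gcd_pos_of_pos_left _ (by norm_num)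
  have hx8 : q ^ 3 ≤ q ^ k := Nat.pow_le_pow_right (by omega) (by omega)
  have hx2 : q * q * q ≤ q ^ k := by calc q * q * q = q ^ 3 := by ring
                                   _ ≤ q ^ k := hx8
  clear hx8
  generalize hge : Nat.gcd 4 (q ^ (k + 1) - 1) = e at h hg
  rw [pow_succ]
  generalize q ^ k = x at h hx2 ⊢
  obtain ⟨-, h1, h2⟩ | ⟨-, h1, h2⟩ := h
  · have h4 : 4 ≤ q := by omega
    have h5 : m ≤ (x + 1) * (q + 1) := by
      rw [← h1]
      exact Nat.le_mul_of_pos_right _ hg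
    nlinarith
  · have h5 : m ≤ (x - 1) * (q - 1) := by
      rw [← h1]
      exact Nat.le_mul_of_pos_right _ hg
    have h6 : (x - 1) * (q - 1) ≤ x * q := Nat.mul_le_mul (Nat.sub_le _ _) (Nat.sub_le _ _)
    nlinarith

theorem two_mul_le (q : ℕ) (hq : 2 ≤ q) : 2 * q ≤ 2 ^ q := by
  induction q, hq using Nat.le_induction with
  | base => norm_num
  | succ k hk ih => rw [pow_succ]; omega

theorem g_le {q g B : ℕ} (hq : 2 ≤ q) (hn : 1 ≤ n) (hB : B ≤ 3 * q ^ n) (hg : 2 ^ g ≤ B) : g ≤ n * q := by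
  by_contra hcon
  have h1 : 2 ^ (n * q + 1) ≤ 2 ^ g := Nat.pow_le_pow_right (by norm_num) (by omega)
  have h2 : (2 * q) ^ n ≤ 2 ^ (n * q) := by
    rw [mul_comm n q, pow_mul]
    exact Nat.pow_le_pow_left (two_mul_le q hq) n
  have h3 : 2 ≤ 2 ^ n := Nat.le_self_pow (by omega) 2
  have h4 : 2 * q ^ n ≤ (2 * q) ^ n := by
    rw [mul_pow]
    exact Nat.mul_le_mul_right _ h3
  have h5 : 0 < q ^ n := pow_pos (by omega) n
  rw [pow_succ] at h1
  omega

theorem five_pow {n : ℕ} (hn : 10 ≤ n) : 6 * n ^ 5 < 2 ^ (4 * n - 19) := by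
  induction n, hn using Nat.le_induction with
  | base => norm_num
  | succ n hn ih =>
    have h1 : (n + 1) ^ 5 ≤ 2 * n ^ 5 := by
      obtain ⟨k, rfl⟩ : ∃ k, n = k + 10 := ⟨n - 10, by omega⟩
      nlinarith [Nat.zero_le k, Nat.zero_le (k ^ 2), Nat.zero_le (k ^ 3), Nat.zero_le (k ^ 4), Nat.zero_le (k ^ 5)]
    have h2 : 2 ^ (4 * (n + 1) - 19) = 16 * 2 ^ (4 * n - 19) := by
      rw [show 4 * (n + 1) - 19 = (4 * n - 19) + 4 by omega, pow_add]; ring
    rw [h2]
    omega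

/-- the general inequality -/
theorem gen_ineq {q k : ℕ} (hq : 2 ≤ q) (hk : 4 ≤ k) (h : 5 ≤ k ∨ 3 ≤ q) :
    2 * ((2 * k) * q) * (3 * q ^ (2 * k)) * (3 * q ^ (2 * k) + 1) * ((2 * k - 2) * (2 * k - 3) * k * k) <
      q ^ (12 * k - 18) := by
  have h1 : 6 * (2 * k) ^ 5 < q ^ (8 * k - 19) := by
    rcases Nat.lt_or_ge k 5 with h5 | h5
    · have h4 : k = 4 := by omega
      subst h4
      have h3 : 3 ≤ q := by omega
      calc 6 * (2 * 4) ^ 5 < 3 ^ 13 := by norm_num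
        _ ≤ q ^ 13 := Nat.pow_le_pow_left h3 13
    · have h6 := five_pow (n := 2 * k) (by omega)
      rw [show 4 * (2 * k) - 19 = 8 * k - 19 by omega] at h6
      exact h6.trans_le (Nat.pow_le_pow_left hq _)
  have h2 : 3 * q ^ (2 * k) + 1 ≤ 4 * q ^ (2 * k) := by
    have : 1 ≤ q ^ (2 * k) := Nat.one_le_pow _ _ (by omega)
    omega
  have h3 : 4 * ((2 * k - 2) * (2 * k - 3) * k * k) ≤ (2 * k) ^ 4 := by
    calc 4 * ((2 * k - 2) * (2 * k - 3) * k * k) ≤ 4 * ((2 * k) * (2 * k) * k * k) := by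
          gcongr <;> omega
      _ = (2 * k) ^ 4 := by ring
  have hq0 : 0 < q := by omega
  have h4 : 4 * (2 * ((2 * k) * q) * (3 * q ^ (2 * k)) * (3 * q ^ (2 * k) + 1) * ((2 * k - 2) * (2 * k - 3) * k * k)) <
      4 * q ^ (12 * k - 18) := by
    calc 4 * (2 * ((2 * k) * q) * (3 * q ^ (2 * k)) * (3 * q ^ (2 * k) + 1) * ((2 * k - 2) * (2 * k - 3) * k * k))
        = 2 * ((2 * k) * q) * (3 * q ^ (2 * k)) * (3 * q ^ (2 * k) + 1) * (4 * ((2 * k - 2) * (2 * k - 3) * k * k)) := by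
          ring
      _ ≤ 2 * ((2 * k) * q) * (3 * q ^ (2 * k)) * (4 * q ^ (2 * k)) * (2 * k) ^ 4 := by gcongr
      _ = 4 * (6 * (2 * k) ^ 5 * q ^ (4 * k + 1)) := by ring
      _ < 4 * (q ^ (8 * k - 19) * q ^ (4 * k + 1)) := by gcongr
      _ = 4 * q ^ (12 * k - 18) := by
          rw [← pow_add]
          congr 2
          omega
  omega

/-- `n ≥ 8` -/
theorem exists_good_ge (hD : Dat n p f M d m MS I) (hn : 8 ≤ n) :
    ∃ y, y ∣ num (.D n) (p ^ f) ∧ Nat.Coprime y ((p ^ f) ^ 2 - 1) ∧ Nat.Coprime y m ∧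
      ∀ g, 2 ^ g ≤ 2 * m + 1 → 2 * g * (2 * m + 1) * (2 * m + 2) < y := by
  have hq := hD.hY.q_ge
  have hev := hD.hev
  have hml := m_le hD
  have hnum0 := hD.hY.num_ne
  obtain ⟨k, rfl⟩ : ∃ k, n = 2 * k := ⟨n / 2, by omega⟩
  obtain ⟨q, hqq⟩ : ∃ q, p ^ f = q := ⟨_, rfl⟩
  have hdm : ∀ {t : ℕ}, t.Prime → t ∣ m → t ∣ q ^ (2 * (2 * k - 1)) - 1 := fun ht h => by
    rw [← hqq]; exact dvd_of_dvd_m hD ht h
  have hnumD := hD.num
  rw [hqq] at hq hml hnum0 hnumD ⊢
  have hc1 : Nat.Coprime (2 * k - 2) (2 * k - 1) := by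
    rw [show 2 * k - 1 = (2 * k - 2) + 1 by omega]
    simp
  have hc2 : Nat.Coprime (2 * k - 3) (2 * k - 1) := by
    rw [show 2 * k - 1 = 2 + (2 * k - 3) by omega, Nat.coprime_add_self_right, Nat.coprime_comm,
      Nat.Prime.coprime_iff_not_dvd Nat.prime_two]
    omega
  have hc3 : Nat.Coprime k (2 * k - 1) := by
    have h1 : Nat.Coprime k (2 * k) → k = 1 := fun h => by
      have := Nat.Coprime.eq_one_of_dvd h (Dvd.intro_left _ rfl)
      exact this
    rw [show 2 * k - 1 = (k - 1) + k by omega, Nat.coprime_add_self_right]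
    obtain ⟨j, rfl⟩ : ∃ j, k = j + 1 := ⟨k - 1, by omega⟩
    simp
  have hcop : ∀ {i t : ℕ}, i = 2 * k - 2 ∨ i = 2 * k - 3 ∨ i = k → t ∣ q ^ (2 * i) - 1 → ¬ t ∣ q ^ 2 - 1 → t.Prime →
      ¬ t ∣ m := by
    intro i t hi h1 h2 ht h3
    refine not_dvd_of_cop (j := 2 * k - 1) ?_ h1 h2 (hdm ht h3)
    rcases hi with rfl | rfl | rfl
    · exact hc1
    · exact hc2
    · exact hc3
  set X := xx q (2 * k - 2) * xx q (2 * k - 3) * xx q k * xx q k with hX
  set K := (2 * k - 2) * (2 * k - 3) * k * k with hK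
  have n1 := xx_ne hq (show 1 ≤ 2 * k - 2 by omega)
  have n2 := xx_ne hq (show 1 ≤ 2 * k - 3 by omega)
  have n3 := xx_ne hq (show 1 ≤ k by omega)
  have hX0 : X ≠ 0 := by
    rw [hX]
    exact Nat.mul_ne_zero (Nat.mul_ne_zero (Nat.mul_ne_zero n1 n2) n3) n3
  have k1 : 2 * k - 2 ≠ 0 := by omega
  have k2 : 2 * k - 3 ≠ 0 := by omega
  have k3 : k ≠ 0 := by omega
  have hK0 : K ≠ 0 := by
    rw [hK]
    exact Nat.mul_ne_zero (Nat.mul_ne_zero (Nat.mul_ne_zero k1 k2) k3) k3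
  obtain ⟨y, hy1, hy2, hy3⟩ := exists_cop (D := q ^ 2 - 1) hX0 hK0 (fun t ht hd => by
    rw [hX, hK, Nat.factorization_mul (Nat.mul_ne_zero (Nat.mul_ne_zero n1 n2) n3) n3,
      Nat.factorization_mul (Nat.mul_ne_zero n1 n2) n3, Nat.factorization_mul n1 n2,
      Nat.factorization_mul (Nat.mul_ne_zero (Nat.mul_ne_zero k1 k2) k3) k3,
      Nat.factorization_mul (Nat.mul_ne_zero k1 k2) k3, Nat.factorization_mul k1 k2]
    simp only [Finsupp.add_apply]
    rw [val_xx hq (by omega) ht hd, val_xx hq (by omega) ht hd, val_xx hq (by omega) ht hd])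
  have hXd : X ∣ num (.D (2 * k)) q := by
    rw [num_D (by omega)]
    have h1 : (∏ i ∈ ({2 * k - 2, 2 * k - 3, k} : Finset ℕ), (q ^ (2 * i) - 1)) =
        (q ^ (2 * (2 * k - 2)) - 1) * ((q ^ (2 * (2 * k - 3)) - 1) * (q ^ (2 * k) - 1)) := by
      rw [Finset.prod_insert (by simp; omega), Finset.prod_insert (by simp; omega), Finset.prod_singleton]
    have h2 := prod_dvd (n := 2 * k) (q := q) {2 * k - 2, 2 * k - 3, k} (by
      intro i hi
      simp only [Finset.mem_insert, Finset.mem_singleton] at hi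
      omega)
    rw [h1] at h2
    have h3 : X ∣ (q ^ (2 * k) - 1) * ((q ^ (2 * (2 * k - 2)) - 1) * ((q ^ (2 * (2 * k - 3)) - 1) * (q ^ (2 * k) - 1))) := by
      have : X = xx q k * (xx q (2 * k - 2) * (xx q (2 * k - 3) * xx q k)) := by rw [hX]; ring
      rw [this]
      exact Nat.mul_dvd_mul (xx_dvd _) (Nat.mul_dvd_mul (xx_dvd _) (Nat.mul_dvd_mul (xx_dvd _) (xx_dvd _)))
    exact h3.trans (Nat.mul_dvd_mul (dvd_refl _) h2)
  refine ⟨y, hy1.trans hXd, hy2, ?_, ?_⟩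
  · rw [Nat.coprime_iff_gcd_eq_one]
    by_contra hne
    obtain ⟨t, ht, htd⟩ := Nat.exists_prime_and_dvd hne
    have hty := htd.trans (Nat.gcd_dvd_left _ _)
    have htm := htd.trans (Nat.gcd_dvd_right _ _)
    have hnd : ¬ t ∣ q ^ 2 - 1 := fun h =>
      ht.one_lt.ne' (Nat.dvd_one.1 (by rw [← Nat.coprime_iff_gcd_eq_one.1 hy2]; exact Nat.dvd_gcd hty h))
    have htX := hty.trans hy1
    rw [hX, ht.dvd_mul, ht.dvd_mul, ht.dvd_mul] at htX
    obtain ((h1 | h1) | h1) | h1 := htX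
    · exact hcop (Or.inl rfl) (h1.trans (xx_dvd _)) hnd ht htm
    · exact hcop (Or.inr (Or.inl rfl)) (h1.trans (xx_dvd _)) hnd ht htm
    · exact hcop (Or.inr (Or.inr rfl)) (h1.trans (xx_dvd _)) hnd ht htm
    · exact hcop (Or.inr (Or.inr rfl)) (h1.trans (xx_dvd _)) hnd ht htm
  · intro g hg
    refine lt_of_mul_lt_mul_right (lt_of_lt_of_le ?_ hy3) (Nat.zero_le K)
    by_cases h82 : 5 ≤ k ∨ 3 ≤ q
    · have hgn := g_le hq (by omega) hml hg
      have hXle : q ^ (12 * k - 18) ≤ X := by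
        have e : q ^ (12 * k - 18) = q ^ (2 * (2 * k - 2 - 1)) * q ^ (2 * (2 * k - 3 - 1)) * q ^ (2 * (k - 1)) *
            q ^ (2 * (k - 1)) := by
          rw [← pow_add, ← pow_add, ← pow_add]
          congr 1
          omega
        rw [e, hX]
        exact Nat.mul_le_mul (Nat.mul_le_mul (Nat.mul_le_mul (le_xx hq (by omega)) (le_xx hq (by omega)))
          (le_xx hq (by omega))) (le_xx hq (by omega))
      refine lt_of_lt_of_le (lt_of_le_of_lt ?_ (gen_ineq hq (by omega) h82)) hXle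
      exact Nat.mul_le_mul_right _ (Nat.mul_le_mul (Nat.mul_le_mul (Nat.mul_le_mul_left 2 hgn) hml) (by omega))
    · have hk4 : k = 4 := by omega
      have hq2 : q = 2 := by omega
      subst hk4 hq2
      have hm : m = 127 := by
        obtain ⟨-, h1, h2⟩ | ⟨-, h1, h2⟩ := hnumD
        · omega
        · norm_num at h1
          exact h1
      subst hm
      have hg7 : g < 8 := by
        by_contra h8
        have : 2 ^ 8 ≤ 2 ^ g := Nat.pow_le_pow_right (by norm_num) (by omega)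
        norm_num at this hg
        omega
      have e1 : X = 1365 * 341 * 85 * 85 := by rw [hX]; norm_num [xx]
      rw [e1, hK]
      norm_num
      interval_cases g <;> norm_num

/-! ### `n = 6` -/

theorem val_w_minus {q w t : ℕ} (hq : 2 ≤ q) (hw : w * (q - 1) = q ^ 5 - 1) (hodd : ¬ 2 ∣ w) (ht : t.Prime)
    (hd : t ∣ q ^ 2 - 1) : w.factorization t ≤ (5 : ℕ).factorization t := by
  have := Fact.mk ht
  by_cases htw : t ∣ w
  · have hq5 : t ∣ q ^ 5 - 1 := htw.trans (Dvd.intro _ hw)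
    have h1 : t ∣ q - 1 := by
      have h2 := Nat.dvd_gcd hq5 hd
      rw [Nat.pow_sub_one_gcd_pow_sub_one, show Nat.gcd 5 2 = 1 by norm_num, pow_one] at h2
      exact h2
    have hto : Odd t := by
      rcases ht.eq_two_or_odd' with h | h
      · subst h; exact absurd htw hodd
      · exact h
    have hq2 : ¬ t ∣ q := by
      intro h
      have h2 := Nat.dvd_sub h h1
      rw [show q - (q - 1) = 1 by omega] at h2
      exact ht.one_lt.ne' (Nat.dvd_one.1 h2)
    have h3 := padicValNat.pow_sub_pow hto (x := q) (y := 1) (n := 5) (by omega) h1 hq2 (by norm_num)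
    have hw0 : w ≠ 0 := by
      rintro rfl
      rw [zero_mul] at hw
      have : 2 ^ 5 ≤ q ^ 5 := Nat.pow_le_pow_left hq 5
      omega
    have h4 : (w * (q - 1)).factorization t = (q ^ 5 - 1).factorization t := by rw [hw]
    rw [Nat.factorization_mul hw0 (by omega), Finsupp.add_apply] at h4
    rw [one_pow] at h3
    simp only [Nat.factorization_def _ ht] at *
    omega
  · rw [Nat.factorization_eq_zero_of_not_dvd htw]
    exact Nat.zero_le _

theorem val_w_plus {q w t : ℕ} (hq : 2 ≤ q) (hw : w * (q + 1) = q ^ 5 + 1) (hodd : ¬ 2 ∣ w) (ht : t.Prime)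
    (hd : t ∣ q ^ 2 - 1) : w.factorization t ≤ (5 : ℕ).factorization t := by
  have := Fact.mk ht
  by_cases htw : t ∣ w
  · have hto : Odd t := by
      rcases ht.eq_two_or_odd' with h | h
      · subst h; exact absurd htw hodd
      · exact h
    have hq5 : t ∣ q ^ 5 + 1 := htw.trans (Dvd.intro _ hw)
    have h1 : t ∣ q + 1 := by
      have e : q ^ 2 - 1 = (q + 1) * (q - 1) := by simpa using Nat.sq_sub_sq q 1
      rw [e, ht.dvd_mul] at hd
      rcases hd with h | h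
      · exact h
      · exfalso
        have h2 : t ∣ q ^ 5 - 1 := h.trans (by simpa using Nat.sub_dvd_pow_sub_pow q 1 5)
        have h3 := Nat.dvd_sub hq5 h2
        have h4 : 1 ≤ q ^ 5 := Nat.one_le_pow _ _ (by omega)
        rw [show q ^ 5 + 1 - (q ^ 5 - 1) = 2 by omega] at h3
        have h5 := (Nat.prime_dvd_prime_iff_eq ht Nat.prime_two).1 h3
        subst h5
        exact absurd hto (by decide)
    have hq2 : ¬ t ∣ q := by
      intro h
      have h2 := (Nat.dvd_add_right h).1 h1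
      exact ht.one_lt.ne' (Nat.dvd_one.1 h2)
    have h3 := padicValNat.pow_add_pow hto (x := q) (y := 1) (n := 5) h1 hq2 (by decide)
    have hw0 : w ≠ 0 := by
      rintro rfl
      rw [zero_mul] at hw
      omega
    have h4 : (w * (q + 1)).factorization t = (q ^ 5 + 1).factorization t := by rw [hw]
    rw [Nat.factorization_mul hw0 (by omega), Finsupp.add_apply] at h4
    rw [one_pow] at h3
    simp only [Nat.factorization_def _ ht] at *
    omega
  · rw [Nat.factorization_eq_zero_of_not_dvd htw]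
    exact Nat.zero_le _

/-- the additional factor for `n = 6` -/
theorem exists_w (hD : Dat 6 p f M d m MS I) : ∃ w, w ∣ (p ^ f) ^ 10 - 1 ∧ 6 * (p ^ f) ^ 4 ≤ 9 * w ∧
    (4 ≤ p ^ f → 6 * (p ^ f) ^ 4 ≤ 7 * w) ∧
    (∀ t, t.Prime → t ∣ (p ^ f) ^ 2 - 1 → w.factorization t ≤ (5 : ℕ).factorization t) ∧
    (∀ t, t.Prime → t ∣ w → ¬ t ∣ (p ^ f) ^ 2 - 1 → ¬ t ∣ m) ∧ w ≠ 0 := by
  have hq := hD.hY.q_ge
  obtain ⟨q, hqq⟩ : ∃ q, p ^ f = q := ⟨_, rfl⟩
  have h := hD.num
  rw [hqq] at h hq ⊢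
  rw [Cfsg.Agent.H60.DE.Num] at h
  have e10 : q ^ 10 - 1 = (q ^ 5 + 1) * (q ^ 5 - 1) := by
    have := Nat.sq_sub_sq (q ^ 5) 1
    rw [one_pow, ← pow_mul] at this
    exact this
  have e2 : q ^ 2 - 1 = (q + 1) * (q - 1) := by simpa using Nat.sq_sub_sq q 1
  have h5 : 1 ≤ q ^ 5 := Nat.one_le_pow _ _ (by omega)
  obtain ⟨-, h1, h2⟩ | ⟨-, h1, h2⟩ := h
  · obtain ⟨w, hw⟩ : ∃ w, w = q ^ 4 + q ^ 3 + q ^ 2 + q + 1 := ⟨_, rfl⟩
    have hww : w * (q - 1) = q ^ 5 - 1 := by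
      obtain ⟨a, rfl⟩ : ∃ a, q = a + 1 := ⟨q - 1, by omega⟩
      rw [hw, Nat.add_sub_cancel]
      have : (a + 1) ^ 5 = ((a + 1) ^ 4 + (a + 1) ^ 3 + (a + 1) ^ 2 + (a + 1) + 1) * a + 1 := by ring
      omega
    have hodd : ¬ 2 ∣ w := by
      have e : w = q * (q + 1) * (q ^ 2 + 1) + 1 := by rw [hw]; ring
      have h3 : 2 ∣ q * (q + 1) := (Nat.even_mul_succ_self q).two_dvd
      rw [e]
      have h4 : 2 ∣ q * (q + 1) * (q ^ 2 + 1) := h3.mul_right _
      omega
    refine ⟨w, ?_, ?_, ?_, fun t ht hd => val_w_minus hq hww hodd ht hd, ?_, by rw [hw]; omega⟩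
    · rw [e10]
      exact (Dvd.intro _ hww).mul_left _
    · rw [hw]; nlinarith [Nat.zero_le (q ^ 4)]
    · intro _
      rw [hw]; nlinarith [Nat.zero_le (q ^ 4)]
    · intro t ht htw hnd htm
      have h3 : t ∣ q ^ 5 - 1 := htw.trans (Dvd.intro _ hww)
      have h4 : t ∣ (q ^ 5 + 1) * (q + 1) := by rw [← h1]; exact htm.mul_right _
      rcases ht.dvd_mul.1 h4 with h5' | h5'
      · have h6 := Nat.dvd_sub h5' h3
        rw [show q ^ 5 + 1 - (q ^ 5 - 1) = 2 by omega] at h6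
        have h7 := (Nat.prime_dvd_prime_iff_eq ht Nat.prime_two).1 h6
        subst h7
        exact hodd htw
      · exact hnd (by rw [e2]; exact h5'.mul_right _)
  · obtain ⟨a, ha⟩ : ∃ a, q = a + 1 := ⟨q - 1, by omega⟩
    obtain ⟨w, hw⟩ : ∃ w, w = a * (a + 1) ^ 3 + a * (a + 1) + 1 := ⟨_, rfl⟩
    have hww : w * (q + 1) = q ^ 5 + 1 := by
      rw [hw, ha]; ring
    have hodd : ¬ 2 ∣ w := by
      have h3 : 2 ∣ a * (a + 1) := (Nat.even_mul_succ_self a).two_dvd
      have e : w = a * (a + 1) * ((a + 1) ^ 2 + 1) + 1 := by rw [hw]; ring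
      rw [e]
      have h4 : 2 ∣ a * (a + 1) * ((a + 1) ^ 2 + 1) := h3.mul_right _
      omega
    refine ⟨w, ?_, ?_, ?_, fun t ht hd => val_w_plus hq hww hodd ht hd, ?_, by rw [hw]; omega⟩
    · rw [e10]
      exact (Dvd.intro _ hww).mul_right _
    · rcases Nat.lt_or_ge q 3 with h3 | h3
      · have : a = 1 := by omega
        subst this
        rw [hw, ha]; norm_num
      · obtain ⟨b, rfl⟩ : ∃ b, a = b + 2 := ⟨a - 2, by omega⟩
        rw [hw, ha]
        nlinarith [Nat.zero_le (b ^ 4), Nat.zero_le (b ^ 3), Nat.zero_le (b ^ 2), Nat.zero_le b]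
    · intro h5
      obtain ⟨b, rfl⟩ : ∃ b, a = b + 6 := ⟨a - 6, by omega⟩
      rw [hw, ha]
      nlinarith [Nat.zero_le (b ^ 4), Nat.zero_le (b ^ 3), Nat.zero_le (b ^ 2), Nat.zero_le b]
    · intro t ht htw hnd htm
      have h3 : t ∣ q ^ 5 + 1 := htw.trans (Dvd.intro _ hww)
      have h4 : t ∣ (q ^ 5 - 1) * (q - 1) := by rw [← h1]; exact htm.mul_right _
      rcases ht.dvd_mul.1 h4 with h5' | h5'
      · have h6 := Nat.dvd_sub h3 h5'
        rw [show q ^ 5 + 1 - (q ^ 5 - 1) = 2 by omega] at h6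
        have h7 := (Nat.prime_dvd_prime_iff_eq ht Nat.prime_two).1 h6
        subst h7
        exact hodd htw
      · exact hnd (by rw [e2]; exact h5'.mul_left _)

/-- `n = 6` -/
theorem exists_good_six (hD : Dat 6 p f M d m MS I) :
    ∃ y, y ∣ num (.D 6) (p ^ f) ∧ Nat.Coprime y ((p ^ f) ^ 2 - 1) ∧ Nat.Coprime y m ∧
      ∀ g, 2 ^ g ≤ 2 * m + 1 → 2 * g * (2 * m + 1) * (2 * m + 2) < y := by
  have hq := hD.hY.q_ge
  have hml := m_le hD
  have hnum0 := hD.hY.num_ne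
  obtain ⟨w, w1, w2, w3, w4, w5, w6⟩ := exists_w hD
  obtain ⟨q, hqq⟩ : ∃ q, p ^ f = q := ⟨_, rfl⟩
  have hdm : ∀ {t : ℕ}, t.Prime → t ∣ m → t ∣ q ^ (2 * 5) - 1 := fun ht h => by
    rw [← hqq]; exact dvd_of_dvd_m hD ht h
  have hnumD := hD.num
  rw [Cfsg.Agent.H60.DE.Num] at hnumD
  have hpp : q ≠ 6 := by
    rintro rfl
    have h2 : 2 ∣ p ^ f := by rw [hqq]; norm_num
    have h3 : 3 ∣ p ^ f := by rw [hqq]; norm_num
    have e2 := (Nat.prime_dvd_prime_iff_eq Nat.prime_two hD.hY.hp).1 (Nat.prime_two.dvd_of_dvd_pow h2)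
    have e3 := (Nat.prime_dvd_prime_iff_eq Nat.prime_three hD.hY.hp).1 (Nat.prime_three.dvd_of_dvd_pow h3)
    omega
  rw [hqq] at hq hml hnum0 hnumD w1 w2 w3 w4 w5 ⊢
  have hcop : ∀ {i t : ℕ}, Nat.Coprime i 5 → t ∣ q ^ (2 * i) - 1 → ¬ t ∣ q ^ 2 - 1 → t.Prime →
      ¬ t ∣ m := fun hi h1 h2 ht h3 => not_dvd_of_cop hi h1 h2 (hdm ht h3)
  set X := xx q 4 * xx q 3 * xx q 2 * xx q 3 * w with hX
  set K := 4 * 3 * 2 * 3 * 5 with hK
  have n4 := xx_ne hq (show 1 ≤ 4 by omega)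
  have n3 := xx_ne hq (show 1 ≤ 3 by omega)
  have n2 := xx_ne hq (show 1 ≤ 2 by omega)
  have m1 := Nat.mul_ne_zero n4 n3
  have m2 := Nat.mul_ne_zero m1 n2
  have m3 := Nat.mul_ne_zero m2 n3
  have hX0 : X ≠ 0 := Nat.mul_ne_zero m3 w6
  obtain ⟨y, hy1, hy2, hy3⟩ := exists_cop (K := K) (D := q ^ 2 - 1) hX0 (by norm_num) (fun t ht hd => by
    rw [hX, hK, Nat.factorization_mul m3 w6, Nat.factorization_mul m2 n3, Nat.factorization_mul m1 n2,
      Nat.factorization_mul n4 n3, Nat.factorization_mul (a := 4 * 3 * 2 * 3) (b := 5) (by norm_num) (by norm_num),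
      Nat.factorization_mul (a := 4 * 3 * 2) (b := 3) (by norm_num) (by norm_num),
      Nat.factorization_mul (a := 4 * 3) (b := 2) (by norm_num) (by norm_num),
      Nat.factorization_mul (a := 4) (b := 3) (by norm_num) (by norm_num)]
    simp only [Finsupp.add_apply]
    rw [val_xx hq (by omega) ht hd, val_xx hq (by omega) ht hd, val_xx hq (by omega) ht hd]
    have := w4 t ht hd
    omega)
  have hXd : X ∣ num (.D 6) q := by
    rw [num_D (by omega)]
    have h1 : (∏ i ∈ ({4, 3, 2, 5} : Finset ℕ), (q ^ (2 * i) - 1)) =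
        (q ^ (2 * 4) - 1) * ((q ^ (2 * 3) - 1) * ((q ^ (2 * 2) - 1) * (q ^ (2 * 5) - 1))) := by
      rw [Finset.prod_insert (by simp), Finset.prod_insert (by simp), Finset.prod_insert (by simp),
        Finset.prod_singleton]
    have h2 := prod_dvd (n := 6) (q := q) {4, 3, 2, 5} (by
      intro i hi
      simp only [Finset.mem_insert, Finset.mem_singleton] at hi
      omega)
    rw [h1] at h2
    have h3 : X ∣ (q ^ 6 - 1) * ((q ^ (2 * 4) - 1) * ((q ^ (2 * 3) - 1) * ((q ^ (2 * 2) - 1) * (q ^ (2 * 5) - 1)))) := by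
      have : X = xx q 3 * (xx q 4 * (xx q 3 * (xx q 2 * w))) := by rw [hX]; ring
      rw [this]
      exact Nat.mul_dvd_mul (xx_dvd (q := q) 3) (Nat.mul_dvd_mul (xx_dvd _) (Nat.mul_dvd_mul (xx_dvd _)
        (Nat.mul_dvd_mul (xx_dvd _) w1)))
    exact h3.trans (Nat.mul_dvd_mul (dvd_refl _) h2)
  rcases Nat.lt_or_ge q 3 with hq3 | hq3
  · -- `q = 2`
    have hq2 : q = 2 := by omega
    subst hq2
    have hm : m = 31 := by
      obtain ⟨-, h1, h2⟩ | ⟨-, h1, h2⟩ := hnumD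
      · omega
      · norm_num at h1
        exact h1
    subst hm
    refine ⟨229075, ?_, by norm_num, by norm_num, ?_⟩
    · rw [num_D (by omega)]
      norm_num [Finset.prod_range_succ]
    · intro g hg
      have hg7 : g < 6 := by
        by_contra h8
        have : 2 ^ 6 ≤ 2 ^ g := Nat.pow_le_pow_right (by norm_num) (by omega)
        norm_num at this hg
        omega
      interval_cases g <;> norm_num
  refine ⟨y, hy1.trans hXd, hy2, ?_, ?_⟩
  · rw [Nat.coprime_iff_gcd_eq_one]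
    by_contra hne
    obtain ⟨t, ht, htd⟩ := Nat.exists_prime_and_dvd hne
    have hty := htd.trans (Nat.gcd_dvd_left _ _)
    have htm := htd.trans (Nat.gcd_dvd_right _ _)
    have hnd : ¬ t ∣ q ^ 2 - 1 := fun h =>
      ht.one_lt.ne' (Nat.dvd_one.1 (by rw [← Nat.coprime_iff_gcd_eq_one.1 hy2]; exact Nat.dvd_gcd hty h))
    have htX := hty.trans hy1
    rw [hX, ht.dvd_mul, ht.dvd_mul, ht.dvd_mul, ht.dvd_mul] at htX
    obtain (((h1 | h1) | h1) | h1) | h1 := htX
    · exact hcop (i := 4) (by norm_num) (h1.trans (xx_dvd _)) hnd ht htm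
    · exact hcop (i := 3) (by norm_num) (h1.trans (xx_dvd _)) hnd ht htm
    · exact hcop (i := 2) (by norm_num) (h1.trans (xx_dvd _)) hnd ht htm
    · exact hcop (i := 3) (by norm_num) (h1.trans (xx_dvd _)) hnd ht htm
    · exact w5 t ht h1 hnd htm
  · intro g hg
    refine lt_of_mul_lt_mul_right (lt_of_lt_of_le ?_ hy3) (Nat.zero_le K)
    have hgn := g_le hq (by omega) hml hg
    rcases Nat.lt_or_ge q 5 with h5 | h5
    · have h34 : q = 3 ∨ q = 4 := by omega
      rcases h34 with rfl | rfl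
      · have hm : m = 121 := by
          obtain ⟨-, h1, h2⟩ | ⟨-, h1, h2⟩ := hnumD
          · omega
          · norm_num at h1
            omega
        subst hm
        have hw : 54 ≤ w := by omega
        have hg8 : g < 8 := by
          by_contra h8
          have : 2 ^ 8 ≤ 2 ^ g := Nat.pow_le_pow_right (by norm_num) (by omega)
          norm_num at this hg
          omega
        have e1 : X = 820 * 91 * 10 * 91 * w := by rw [hX]; norm_num [xx]
        rw [e1]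
        calc 2 * g * (2 * 121 + 1) * (2 * 121 + 2) * K ≤ 2 * 7 * (2 * 121 + 1) * (2 * 121 + 2) * K := by
              gcongr; omega
          _ < 820 * 91 * 10 * 91 * 54 := by norm_num [hK]
          _ ≤ _ := by gcongr
      · have hm : m = 5125 := by
          obtain ⟨-, h1, h2⟩ | ⟨-, h1, h2⟩ := hnumD
          · norm_num at h1
            omega
          · omega
        subst hm
        have hg14 : g < 14 := by
          by_contra h8
          have : 2 ^ 14 ≤ 2 ^ g := Nat.pow_le_pow_right (by norm_num) (by omega)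
          norm_num at this hg
          omega
        have e1 : X = 4369 * 273 * 17 * 273 * w := by rw [hX]; norm_num [xx]
        have hw : 219 ≤ w := by
          have := w3 le_rfl
          omega
        rw [e1]
        calc 2 * g * (2 * 5125 + 1) * (2 * 5125 + 2) * K ≤ 2 * 13 * (2 * 5125 + 1) * (2 * 5125 + 2) * K := by
              gcongr; omega
          _ < 4369 * 273 * 17 * 273 * 219 := by norm_num [hK]
          _ ≤ _ := by gcongr
    · have h7 : q ^ 6 * 7 ≤ q ^ 6 * q ^ 1 * 7 := by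
        rw [pow_one]
        exact Nat.mul_le_mul_right _ (Nat.le_mul_of_pos_right _ (by omega))
      have hXle : 6 * q ^ 20 ≤ 7 * X := by
        have h1 := le_xx hq (show 1 ≤ 4 by omega)
        have h2 := le_xx hq (show 1 ≤ 3 by omega)
        have h3 := le_xx hq (show 1 ≤ 2 by omega)
        calc 6 * q ^ 20 = q ^ (2 * (4 - 1)) * q ^ (2 * (3 - 1)) * q ^ (2 * (2 - 1)) * q ^ (2 * (3 - 1)) * (6 * q ^ 4) := by
              ring
          _ ≤ xx q 4 * xx q 3 * xx q 2 * xx q 3 * (7 * w) :=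
              Nat.mul_le_mul (Nat.mul_le_mul (Nat.mul_le_mul (Nat.mul_le_mul h1 h2) h3) h2) (w3 (by omega))
          _ = 7 * X := by rw [hX]; ring
      have hb : 7 * (2 * g * (2 * m + 1) * (2 * m + 2) * K) < 6 * q ^ 20 := by
        have h1 : 1 ≤ q ^ 6 := Nat.one_le_pow _ _ (by omega)
        calc 7 * (2 * g * (2 * m + 1) * (2 * m + 2) * K) ≤ 7 * (2 * (6 * q) * (3 * q ^ 6) * (4 * q ^ 6) * K) := by
              apply Nat.mul_le_mul_left
              apply Nat.mul_le_mul_right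
              exact Nat.mul_le_mul (Nat.mul_le_mul (Nat.mul_le_mul_left 2 hgn) hml) (by omega)
          _ = 362880 * q ^ 13 := by rw [hK]; ring
          _ < 468750 * q ^ 13 := by
              have : 0 < q ^ 13 := pow_pos (by omega) _
              omega
          _ = 6 * 5 ^ 7 * q ^ 13 := by norm_num
          _ ≤ 6 * q ^ 7 * q ^ 13 := by gcongr
          _ = 6 * q ^ 20 := by ring
      omega

/-- **a large good divisor**, `n ≥ 6` -/
theorem exists_good (hD : Dat n p f M d m MS I) (hn : 6 ≤ n) :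
    ∃ y, y ∣ num (.D n) (p ^ f) ∧ Nat.Coprime y ((p ^ f) ^ 2 - 1) ∧ Nat.Coprime y m ∧
      ∀ g, 2 ^ g ≤ 2 * m + 1 → 2 * g * (2 * m + 1) * (2 * m + 2) < y := by
  have hev := hD.hev
  rcases Nat.lt_or_ge n 8 with h | h
  · have : n = 6 := by omega
    subst this
    exact exists_good_six hD
  · exact exists_good_ge hD h

end Cfsg.Agent.H370.DE
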