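import Mathlib
import Cfsg.Agent.H370.DE.Num
import Cfsg.Agent.S0243
import Cfsg.Agent.S2507
import Cfsg.Agent.S2508

/-!
# `PΩ⁺(2n, q)`, `n ≥ 6` even (S3677): the simple factor is not `L_2(v ^ g)`, `v ≠ p` (helper370)
-/

set_option autoImplicit false

namespace Cfsg.Agent.H370.DE

open Finset Cfsg.Agent.H902 Cfsg.Agent.H902.Art Cfsg.Agent.H60.DE

universe u w

theorem card_psl_two {E : Type w} [Field E] [Fintype E] :
    Nat.gcd 2 (Fintype.card E - 1) * Nat.card (Matrix.ProjectiveSpecialLinearGroup (Fin 2) E) =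
      Fintype.card E * (Fintype.card E ^ 2 - 1) := by
  have h := Cfsg.Agent.S0243.result (F := E) rfl 2 le_rfl
  rw [Fin.prod_univ_two] at h
  have hq : 1 < Fintype.card E := Fintype.one_lt_card
  generalize Fintype.card E = q at *
  obtain ⟨a, rfl⟩ : ∃ a, q = a + 2 := ⟨q - 2, by omega⟩
  have h1 : (a + 2) ^ 2 - (a + 2) = (a + 2) * (a + 1) := by
    have : (a + 2) ^ 2 = (a + 2) * (a + 1) + (a + 2) := by ring
    omega
  have h2 : a + 2 - 1 = a + 1 := rfl
  simp only [Fin.val_zero, Fin.val_one, pow_zero, pow_one] at h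
  rw [h1, h2] at h
  have h3 : (a + 1) * (Nat.gcd 2 (a + 2 - 1) * Nat.card (Matrix.ProjectiveSpecialLinearGroup (Fin 2) E)) =
      (a + 1) * ((a + 2) * ((a + 2) ^ 2 - 1)) := by
    rw [h2, mul_left_comm, h]; ring
  exact Nat.eq_of_mul_eq_mul_left (by omega) h3

/-- the class sizes of `L_2(Q)` are at most `Q (Q + 1)` -/
theorem index_le {E : Type w} [Field E] [Fintype E] (hE : 6 ≤ Fintype.card E)
    (x : Matrix.ProjectiveSpecialLinearGroup (Fin 2) E) :
    (Subgroup.centralizer ({x} : Set (Matrix.ProjectiveSpecialLinearGroup (Fin 2) E))).index ≤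
      Fintype.card E * (Fintype.card E + 1) := by
  have hx : (Subgroup.centralizer ({x} : Set (Matrix.ProjectiveSpecialLinearGroup (Fin 2) E))).index ∈
      Set.range (fun g : (Matrix.ProjectiveSpecialLinearGroup (Fin 2) E) =>
        (Subgroup.centralizer ({g} : Set (Matrix.ProjectiveSpecialLinearGroup (Fin 2) E))).index) := ⟨x, rfl⟩
  by_cases h2 : 2 ∣ Fintype.card E
  · have h1 := Cfsg.Agent.S2507.result (F := E) h2 (by omega)
    rw [h1] at hx
    generalize Fintype.card E = q at *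
    generalize (Subgroup.centralizer ({x} : Set (Matrix.ProjectiveSpecialLinearGroup (Fin 2) E))).index = i at *
    simp only [Set.mem_insert_iff, Set.mem_singleton_iff] at hx
    have h5 : q * (q - 1) ≤ q * (q + 1) := Nat.mul_le_mul_left _ (by omega)
    have h6 : q ^ 2 - 1 ≤ q * (q + 1) := by
      have : q ^ 2 ≤ q * (q + 1) := by nlinarith
      omega
    have h7 : 1 ≤ q * (q + 1) := Nat.mul_pos (by omega) (by omega)
    rcases hx with rfl | rfl | rfl | rfl <;> omega
  · obtain ⟨h1, h3⟩ := Cfsg.Agent.S2508.result (F := E) h2 (by omega)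
    have h4 : Fintype.card E % 4 = 1 ∨ Fintype.card E % 4 = 3 := by omega
    rcases h4 with h4 | h4
    · rw [h1 h4] at hx
      generalize Fintype.card E = q at *
      generalize (Subgroup.centralizer ({x} : Set (Matrix.ProjectiveSpecialLinearGroup (Fin 2) E))).index = i at *
      simp only [Set.mem_insert_iff, Set.mem_singleton_iff] at hx
      have h5 : q * (q - 1) ≤ q * (q + 1) := Nat.mul_le_mul_left _ (by omega)
      have h6 : q ^ 2 - 1 ≤ q * (q + 1) := by
        have : q ^ 2 ≤ q * (q + 1) := by nlinarith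
        omega
      have h7 : 1 ≤ q * (q + 1) := Nat.mul_pos (by omega) (by omega)
      rcases hx with rfl | rfl | rfl | rfl | rfl <;> omega
    · rw [h3 h4] at hx
      generalize Fintype.card E = q at *
      generalize (Subgroup.centralizer ({x} : Set (Matrix.ProjectiveSpecialLinearGroup (Fin 2) E))).index = i at *
      simp only [Set.mem_insert_iff, Set.mem_singleton_iff] at hx
      have h5 : q * (q - 1) ≤ q * (q + 1) := Nat.mul_le_mul_left _ (by omega)
      have h6 : q ^ 2 - 1 ≤ q * (q + 1) := by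
        have : q ^ 2 ≤ q * (q + 1) := by nlinarith
        omega
      have h7 : 1 ≤ q * (q + 1) := Nat.mul_pos (by omega) (by omega)
      rcases hx with rfl | rfl | rfl | rfl | rfl <;> omega

theorem index_congr {S : Type u} [Group S] {T : Type w} [Group T] (e : S ≃* T) (y : S) :
    (Subgroup.centralizer ({y} : Set S)).index = (Subgroup.centralizer ({e y} : Set T)).index := by
  have h : (Subgroup.centralizer ({y} : Set S)) = (Subgroup.centralizer ({e y} : Set T)).comap e.toMonoidHom := by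
    ext x
    rw [Subgroup.mem_comap, Subgroup.mem_centralizer_singleton_iff, Subgroup.mem_centralizer_singleton_iff]
    constructor
    · intro hx
      simp only [MulEquiv.toMonoidHom_eq_coe, MonoidHom.coe_coe]
      rw [← map_mul, ← map_mul, hx]
    · intro hx
      simp only [MulEquiv.toMonoidHom_eq_coe, MonoidHom.coe_coe] at hx
      rw [← map_mul, ← map_mul] at hx
      exact e.injective hx
  rw [h]
  exact Subgroup.index_comap_of_surjective _ e.surjective

/-- the primitive prime is large -/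
theorem r_ge {q r d : ℕ} (hr : r.Prime) (hd : 1 ≤ d) (ho : orderOf ((q : ℕ) : ZMod r) = d) : d + 1 ≤ r := by
  have := Fact.mk hr
  have hne : ((q : ℕ) : ZMod r) ≠ 0 := by
    intro h0
    rw [h0] at ho
    have : orderOf (0 : ZMod r) = 0 := by
      rw [orderOf_eq_zero_iff']
      intro k hk
      rw [zero_pow hk.ne']
      exact zero_ne_one
    omega
  have h1 : d ∣ r - 1 := by
    rw [← ho]
    exact orderOf_dvd_of_pow_eq_one (ZMod.pow_card_sub_one_eq_one hne)
  have h2 := Nat.le_of_dvd (by have := hr.two_le; omega) h1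
  have := hr.two_le
  omega

theorem Dat.d_ge {n p f M d m MS I : ℕ} (hD : Dat n p f M d m MS I) (hn : 6 ≤ n) : 5 ≤ d := by
  obtain ⟨h, -, -⟩ | ⟨h, -, -⟩ := hD.num <;> omega

/-- **The simple factor is not `L_2(v ^ g)`**, `v ≠ p`. -/
theorem not_psl_two {S : Type u} [Group S] [Finite S] {n p f M d m I v g : ℕ} {E : Type w} [Field E] [Fintype E]
    (hD : Dat n p f M d m (Nat.card S) I) (hn : 6 ≤ n) (hE : Fintype.card E = v ^ g) (hv : v.Prime)
    (e : S ≃* Matrix.ProjectiveSpecialLinearGroup (Fin 2) E) (hI : I ∣ Nat.gcd 2 (v ^ g - 1) * g)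
    (hcs : ∀ r : ℕ, r.Prime → orderOf ((p ^ f : ℕ) : ZMod r) = d → ∀ y : S, orderOf y = r →
      Nat.card (Subgroup.centralizer ({y} : Set S)) ∣ m) : False := by
  obtain ⟨r, hr, ho, hrS⟩ := hD.ex
  have hd5 := Dat.d_ge hD hn
  have hr6 := r_ge hr (by omega) ho
  have := Fact.mk hr
  obtain ⟨y, hy⟩ := exists_prime_orderOf_dvd_card' r hrS
  have hC := hcs r hr ho y hy
  set C := Nat.card (Subgroup.centralizer ({y} : Set S)) with hCd
  set A := (Subgroup.centralizer ({y} : Set S)).index with hAd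
  have hCA : C * A = Nat.card S := (Subgroup.centralizer ({y} : Set S)).card_mul_index
  have hcard := card_psl_two (E := E)
  rw [← Nat.card_congr e.toEquiv] at hcard
  obtain ⟨Q, hQ⟩ : ∃ Q, Fintype.card E = Q := ⟨_, rfl⟩
  have hQ2 : 2 ≤ Q := by rw [← hQ]; exact Fintype.one_lt_card
  rw [hQ] at hcard
  have hQ6 : 6 ≤ Q := by
    have h1 : r ∣ Q * (Q ^ 2 - 1) := by rw [← hcard]; exact hrS.mul_left _
    have e2 : Q ^ 2 - 1 = (Q + 1) * (Q - 1) := by simpa using Nat.sq_sub_sq Q 1
    have h4 : r ≠ 6 := by rintro rfl; exact absurd hr (by norm_num)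
    rw [e2, hr.dvd_mul, hr.dvd_mul] at h1
    rcases h1 with h1 | h1 | h1
    · have := Nat.le_of_dvd (by omega) h1; omega
    · have := Nat.le_of_dvd (by omega) h1; omega
    · have := Nat.le_of_dvd (by omega) h1; omega
  have hA : A ≤ Q * (Q + 1) := by
    rw [hAd, index_congr e y, ← hQ]
    exact index_le (by rw [hQ]; exact hQ6) (e y)
  have hgcd : Nat.gcd 2 (Q - 1) ≤ 2 := Nat.le_of_dvd (by norm_num) (Nat.gcd_dvd_left _ _)
  have hm0 : m ≠ 0 := by
    rintro rfl
    obtain ⟨y0, -, -, h3, -⟩ := exists_good hD hn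
    rw [Nat.coprime_zero_right] at h3
    subst h3
    obtain ⟨-, h, -⟩ | ⟨-, h, -⟩ := hD.num
    · rw [zero_mul] at h
      have := Nat.mul_pos (show 0 < (p ^ f) ^ (n - 1) + 1 by omega) (show 0 < p ^ f + 1 by omega)
      omega
    · rw [zero_mul] at h
      have hq := hD.hY.q_ge
      have h5 : 2 ≤ (p ^ f) ^ (n - 1) := hq.trans (Nat.le_self_pow (by omega) _)
      have := Nat.mul_pos (show 0 < (p ^ f) ^ (n - 1) - 1 by omega) (show 0 < p ^ f - 1 by omega)
      omega
  have hCm : C ≤ m := Nat.le_of_dvd (Nat.pos_of_ne_zero hm0) hC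
  have hQm : Q ≤ 2 * m + 1 := by
    have h1 : (Q - 1) * (Q * (Q + 1)) ≤ (2 * C) * (Q * (Q + 1)) := by
      have e2 : Q ^ 2 - 1 = (Q + 1) * (Q - 1) := by simpa using Nat.sq_sub_sq Q 1
      calc (Q - 1) * (Q * (Q + 1)) = Q * (Q ^ 2 - 1) := by rw [e2]; ring
        _ = Nat.gcd 2 (Q - 1) * (C * A) := by rw [hCA, hcard]
        _ ≤ 2 * (C * (Q * (Q + 1))) := Nat.mul_le_mul hgcd (Nat.mul_le_mul_left _ hA)
        _ = _ := by ring
    have h2 := Nat.le_of_mul_le_mul_right h1 (Nat.mul_pos (by omega) (by omega))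
    omega
  have h2g : 2 ^ g ≤ 2 * m + 1 := by
    calc 2 ^ g ≤ v ^ g := Nat.pow_le_pow_left hv.two_le g
      _ = Q := by rw [← hE, hQ]
      _ ≤ _ := hQm
  obtain ⟨y0, hy1, hy2, hy3, hy4⟩ := exists_good hD hn
  have hS0 : Nat.card S ≠ 0 := Nat.card_pos.ne'
  have hb := bound hD hy1 hy2 hy3 hS0 hCA.symm hC
  have hA0 : 0 < A := by
    rcases Nat.eq_zero_or_pos A with h | h
    · rw [h, mul_zero] at hCA
      exact absurd hCA.symm hS0
    · exact h
  have hle := Nat.le_of_dvd (Nat.mul_pos hD.hI0 hA0) hb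
  have hg0 : 0 < g := by
    rcases Nat.eq_zero_or_pos g with h | h
    · rw [h, pow_zero, hQ] at hE
      omega
    · exact h
  have hI2 : I ≤ 2 * g := by
    have h1 := Nat.le_of_dvd (Nat.mul_pos (Nat.gcd_pos_of_pos_left _ (by norm_num)) hg0) hI
    refine h1.trans (Nat.mul_le_mul_right _ (Nat.le_of_dvd (by norm_num) (Nat.gcd_dvd_left _ _)))
  have hfin : I * A ≤ 2 * g * (2 * m + 1) * (2 * m + 2) := by
    calc I * A ≤ (2 * g) * (Q * (Q + 1)) := Nat.mul_le_mul hI2 hA
      _ ≤ (2 * g) * ((2 * m + 1) * (2 * m + 2)) :=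
          Nat.mul_le_mul_left _ (Nat.mul_le_mul hQm (by omega))
      _ = _ := by ring
  have := hy4 g h2g
  omega

end Cfsg.Agent.H370.DE
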