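import Mathlib
import Cfsg.Agent.H250.EqD.DdN
import Cfsg.Agent.H370.DE.Num
import Cfsg.Agent.OrdDiv.Table

/-!
# `PΩ⁺(2n, q)`, `n ≥ 6` even (S3677): the simple factor is not sporadic and not the Tits group (helper370)
-/

set_option autoImplicit false

namespace Cfsg.Agent.H370.DE

open Finset Cfsg.Agent.H902 Cfsg.Agent.H902.Art Cfsg.Agent.H60.DE Cfsg.Agent.OrdDiv

universe u

/-- the primes of the sporadic groups -/
def PR : List ℕ := [2, 3, 5, 7, 11, 13, 17, 19, 23, 29, 31, 37, 41, 43, 47, 59, 67, 71]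

theorem PR_prime : ∀ a ∈ PR, a.Prime := by
  intro a ha
  simp only [PR, List.mem_cons, List.not_mem_nil, or_false] at ha
  rcases ha with rfl | rfl | rfl | rfl | rfl | rfl | rfl | rfl | rfl | rfl | rfl | rfl | rfl | rfl | rfl | rfl | rfl |
    rfl <;> norm_num

theorem spor_facts : ∀ N ∈ spor.map (fun x => x.2), N ∣ PR.prod ^ 50 ∧ ∀ t ∈ PR, 17 ≤ t → ¬ t ^ 2 ∣ N := by
  decide +kernel

theorem mem_PR {N t : ℕ} (hN : N ∈ spor.map (fun x => x.2)) (ht : t.Prime) (h : t ∣ N) : t ∈ PR := by
  have h1 := ht.dvd_of_dvd_pow (h.trans (spor_facts N hN).1)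
  obtain ⟨a, ha, h2⟩ := (ht.prime.dvd_prod_iff).1 h1
  rw [(Nat.prime_dvd_prime_iff_eq ht (PR_prime a ha)).1 h2]
  exact ha

theorem mod_eight {t : ℕ} (h : t ∈ PR) (h8 : t % 8 = 1) : t = 17 ∨ t = 41 := by
  revert h8
  revert t
  decide

theorem not_sq {N t : ℕ} (hN : N ∈ spor.map (fun x => x.2)) (ht : t.Prime) (h17 : 17 ≤ t) : ¬ t ^ 2 ∣ N := fun h =>
  (spor_facts N hN).2 t (mem_PR hN ht ((dvd_pow_self t two_ne_zero).trans h)) h17 h

/-- an odd prime divisor of `q ^ 4 + 1` is `1` modulo `8` -/
theorem mod_eight_of {q t : ℕ} (ht : t.Prime) (h2 : t ≠ 2) (h : t ∣ q ^ 4 + 1) : t % 8 = 1 := by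
  have := Fact.mk ht
  have h1 : ((q : ℕ) : ZMod t) ^ 4 = -1 := by
    have h3 := (ZMod.natCast_eq_zero_iff (q ^ 4 + 1) t).2 h
    push_cast at h3
    exact eq_neg_of_add_eq_zero_left h3
  have hne : (-1 : ZMod t) ≠ 1 := by
    intro h3
    have h4 : ((2 : ℕ) : ZMod t) = 0 := by
      push_cast
      calc (2 : ZMod t) = 1 + 1 := by norm_num
        _ = 1 - (-1) := by ring
        _ = 0 := by rw [h3]; ring
    have h5 := (ZMod.natCast_eq_zero_iff 2 t).1 h4
    exact h2 ((Nat.prime_dvd_prime_iff_eq ht Nat.prime_two).1 h5)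
  have ho : orderOf ((q : ℕ) : ZMod t) = 8 := by
    have e : (8 : ℕ) = 2 ^ (2 + 1) := by norm_num
    rw [e]
    apply orderOf_eq_prime_pow
    · rw [show (2 : ℕ) ^ 2 = 4 by norm_num, h1]
      exact hne
    · rw [show (2 : ℕ) ^ (2 + 1) = 4 * 2 by norm_num, pow_mul, h1]
      ring
  have h0 : ((q : ℕ) : ZMod t) ≠ 0 := by
    intro h0
    rw [h0] at h1
    rw [zero_pow (by norm_num)] at h1
    exact one_ne_zero (neg_eq_zero.1 h1.symm)
  have h6 : 8 ∣ t - 1 := by
    rw [← ho]
    exact orderOf_dvd_of_pow_eq_one (ZMod.pow_card_sub_one_eq_one h0)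
  have := ht.two_le
  omega

variable {n p f M d m MS I : ℕ}

theorem list_two : ∀ N ∈ spor.map (fun x => x.2), ¬ (31 ∣ N ∧ N ∣ 2 ^ 30 * ((2 ^ 6 - 1) * (3 * 15 * 63 * 255 * 1023))) := by
  decide +kernel

theorem list_three : ∀ N ∈ spor.map (fun x => x.2), ¬ 61 ∣ N := by
  decide +kernel

/-- **`|S|` is not the order of a sporadic group or of the Tits group.** -/
theorem not_spor (hD : Dat n p f M d m MS I) (hn : 6 ≤ n) (hI : I ≤ 2) (h : MS ∈ spor.map (fun x => x.2)) : False := by
  have hq := hD.hY.q_ge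
  have hev := hD.hev
  have hI0 := hD.hI0
  have hY := hD.hY
  have hMS0 : MS ≠ 0 := by
    rintro rfl
    revert h
    decide
  obtain ⟨q, hqq⟩ : ∃ q, p ^ f = q := ⟨_, rfl⟩
  have hdm : ∀ {t : ℕ}, t.Prime → t ∣ m → t ∣ q ^ (2 * (n - 1)) - 1 := fun ht h => by
    rw [← hqq]; exact dvd_of_dvd_m hD ht h
  -- the odd part of `q ^ 4 + 1`
  obtain ⟨z, hz, hzo⟩ : ∃ z, (q ^ 4 + 1 = z ∨ q ^ 4 + 1 = 2 * z) ∧ ¬ 2 ∣ z := by
    rcases Nat.even_or_odd q with he | ho
    · refine ⟨q ^ 4 + 1, Or.inl rfl, ?_⟩
      have : 2 ∣ q ^ 4 := dvd_pow he.two_dvd (by norm_num)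
      omega
    · obtain ⟨x, hx⟩ := ho
      refine ⟨8 * x ^ 4 + 16 * x ^ 3 + 12 * x ^ 2 + 4 * x + 1, Or.inr ?_, ?_⟩
      · rw [hx]; ring
      · have e : 8 * x ^ 4 + 16 * x ^ 3 + 12 * x ^ 2 + 4 * x + 1 = 2 * (4 * x ^ 4 + 8 * x ^ 3 + 6 * x ^ 2 + 2 * x) + 1 := by
          ring
        rw [e]
        omega
  have hzd : z ∣ q ^ 4 + 1 := by
    rcases hz with h1 | h1
    · rw [h1]
    · rw [h1]; exact Dvd.intro_left _ rfl
  have h16 : 16 ≤ q ^ 4 := by
    calc 16 = 2 ^ 4 := by norm_num
      _ ≤ q ^ 4 := Nat.pow_le_pow_left (by rw [← hqq]; exact hq) 4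
  have hz1 : 1 < z := by omega
  have e8 : q ^ 8 - 1 = (q ^ 4 + 1) * (q ^ 4 - 1) := by
    have := Nat.sq_sub_sq (q ^ 4) 1
    rw [one_pow, ← pow_mul] at this
    exact this
  have hz8 : z ∣ q ^ (2 * 4) - 1 := by
    rw [show 2 * 4 = 8 by norm_num, e8]
    exact hzd.mul_right _
  -- primes of `z`
  have hzt : ∀ t, t.Prime → t ∣ z → t % 8 = 1 := fun t ht htz =>
    mod_eight_of ht (by rintro rfl; exact hzo htz) (htz.trans hzd)
  have hnd : ∀ t, t.Prime → t ∣ z → ¬ t ∣ q ^ 2 - 1 := by
    intro t ht htz h1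
    have h2 : t ∣ q ^ 4 - 1 := h1.trans (by
      have := Nat.sub_dvd_pow_sub_pow (q ^ 2) 1 2
      rw [one_pow, ← pow_mul] at this
      exact this)
    have h3 := Nat.dvd_sub (htz.trans hzd) h2
    rw [show q ^ 4 + 1 - (q ^ 4 - 1) = 2 by omega] at h3
    have h4 := (Nat.prime_dvd_prime_iff_eq ht Nat.prime_two).1 h3
    subst h4
    exact hzo htz
  have hnm : ∀ t, t.Prime → t ∣ z → ¬ t ∣ m := by
    intro t ht htz h1
    refine not_dvd_of_cop (i := 4) (j := n - 1) ?_ (htz.trans hz8) (hnd t ht htz) (hdm ht h1)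
    have : Nat.Coprime (2 ^ 2) (n - 1) := by
      apply Nat.Coprime.pow_left
      rw [Nat.Prime.coprime_iff_not_dvd Nat.prime_two]
      omega
    exact this
  have hco : ∀ w, (∀ t, t.Prime → t ∣ z → ¬ t ∣ w) → Nat.Coprime z w := by
    intro w hw
    rw [Nat.coprime_iff_gcd_eq_one]
    by_contra hne
    obtain ⟨t, ht, htd⟩ := Nat.exists_prime_and_dvd hne
    exact hw t ht (htd.trans (Nat.gcd_dvd_left _ _)) (htd.trans (Nat.gcd_dvd_right _ _))
  have hcq := hco _ hnd
  have hcm := hco _ hnm
  have hcI : Nat.Coprime z I := by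
    apply hco
    intro t ht htz h1
    have := Nat.le_of_dvd hI0 h1
    have h2 := hzt t ht htz
    have := ht.two_le
    omega
  rcases Nat.lt_or_ge n 8 with h8 | h8
  · -- `n = 6`
    have hn6 : n = 6 := by omega
    subst hn6
    have hzn : z ∣ num (.D 6) q := by
      rw [num_D (by omega)]
      refine hz8.trans (Dvd.dvd.mul_left ?_ _)
      have := prod_dvd (n := 6) (q := q) {4} (by simp)
      rwa [Finset.prod_singleton] at this
    have h1 := good_dvd hD (y := z) (by rw [hqq]; exact hzn) (by rw [hqq]; exact hcq) hcm hMS0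
    have h2 : z ∣ MS := Nat.Coprime.dvd_of_dvd_mul_left hcI h1
    have h3 : z ∣ 17 * 41 := by
      have hz0 : z ≠ 0 := by omega
      rw [← Nat.factorization_le_iff_dvd hz0 (by norm_num)]
      intro t
      by_cases ht : t ∣ z ∧ t.Prime
      · obtain ⟨htz, ht⟩ := ht
        have h4 := mem_PR h ht (htz.trans h2)
        have h5 : z.factorization t ≤ 1 := by
          by_contra hcon
          have h6 : t ^ 2 ∣ z := (ht.pow_dvd_iff_le_factorization hz0).2 (by omega)
          refine not_sq h ht ?_ (h6.trans h2)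
          have := hzt t ht htz
          have := ht.two_le
          have : t ≠ 9 := by rintro rfl; exact absurd ht (by norm_num)
          omega
        refine h5.trans ((ht.dvd_iff_one_le_factorization (by norm_num)).1 ?_)
        rcases mod_eight h4 (hzt t ht htz) with rfl | rfl <;> norm_num
      · have : z.factorization t = 0 := by
          rw [Nat.factorization_eq_zero_iff]
          tauto
        omega
    have h4 := Nat.le_of_dvd (by norm_num) h3
    have hq6 : q < 7 := by
      by_contra hcon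
      have : 7 ^ 4 ≤ q ^ 4 := Nat.pow_le_pow_left (by omega) 4
      omega
    have hq2 : 2 ≤ q := by rw [← hqq]; exact hq
    have h23 : q = 2 ∨ q = 3 := by
      interval_cases q
      · left; rfl
      · right; rfl
      · exfalso
        rcases hz with h5 | h5
        · subst h5; norm_num at h3
        · omega
      · exfalso
        rcases hz with h5 | h5
        · subst h5; norm_num at hzo
        · have : z = 313 := by omega
          subst this; norm_num at h3
      · exfalso
        rcases hz with h5 | h5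
        · subst h5; norm_num at h4
        · omega
    rcases h23 with rfl | rfl
    · obtain ⟨r, hr, ho, hrS⟩ := hD.ex
      have hd : d = 5 := by
        have h5 := hD.num
        rw [hqq] at h5
        obtain ⟨-, -, h6⟩ | ⟨h6, -, -⟩ := h5
        · omega
        · exact h6
      have h31 : r = 31 := by
        have := Fact.mk hr
        rw [hqq, hd] at ho
        have h5 : r ∣ 2 ^ 5 - 1 := by
          rw [← ZMod.natCast_eq_zero_iff, Nat.cast_sub (by norm_num), sub_eq_zero]
          have h6 := pow_orderOf_eq_one ((2 : ℕ) : ZMod r)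
          rw [ho] at h6
          rw [Nat.cast_pow, h6, Nat.cast_one]
        exact (Nat.prime_dvd_prime_iff_eq hr (by norm_num)).1 (by norm_num at h5; exact h5)
      subst h31
      refine list_two MS h ⟨hrS, hD.hMS.trans ?_⟩
      have h5 := hY.eq
      rw [hqq, num_D (by omega)] at h5
      have h6 : dd (.D 6) 2 = 1 := by norm_num [dd]
      rw [h6, one_mul] at h5
      rw [h5]
      norm_num [Finset.prod_range_succ, NN]
    · have hm : m = 121 := by
        have h5 := hD.num
        rw [hqq] at h5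
        obtain ⟨-, h1, h2⟩ | ⟨-, h1, h2⟩ := h5
        · omega
        · norm_num at h1
          omega
      have h5 := good_dvd hD (y := 61) (by
        rw [hqq, num_D (by omega)]
        norm_num [Finset.prod_range_succ]) (by rw [hqq]; norm_num) (by rw [hm]; norm_num) hMS0
      have h6 : 61 ∣ MS := by
        refine Nat.Coprime.dvd_of_dvd_mul_left ?_ h5
        rw [Nat.Prime.coprime_iff_not_dvd (by norm_num)]
        intro h7
        have := Nat.le_of_dvd hI0 h7
        omega
      exact list_three MS h h6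
  · -- `n ≥ 8`
    have hzn : z * z ∣ num (.D n) q := by
      rw [num_D (by omega)]
      by_cases hn8 : n = 8
      · subst hn8
        refine Nat.mul_dvd_mul ?_ ?_
        · exact hz8
        · refine hz8.trans ?_
          have := prod_dvd (n := 8) (q := q) {4} (by simp)
          rwa [Finset.prod_singleton] at this
      · refine Dvd.dvd.mul_left ?_ _
        have h1 := prod_dvd (n := n) (q := q) {4, 8} (by
          intro i hi
          simp only [Finset.mem_insert, Finset.mem_singleton] at hi
          omega)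
        rw [Finset.prod_insert (by simp), Finset.prod_singleton] at h1
        refine (Nat.mul_dvd_mul hz8 (hz8.trans ?_)).trans h1
        have := Nat.sub_dvd_pow_sub_pow (q ^ 8) 1 2
        rw [one_pow, ← pow_mul] at this
        exact this
    have h1 := good_dvd hD (y := z * z) (by rw [hqq]; exact hzn) (by rw [hqq]; exact Nat.Coprime.mul_left hcq hcq)
      (Nat.Coprime.mul_left hcm hcm) hMS0
    have h2 : z * z ∣ MS := Nat.Coprime.dvd_of_dvd_mul_left (Nat.Coprime.mul_left hcI hcI) h1
    obtain ⟨t, ht, htz⟩ := Nat.exists_prime_and_dvd hz1.ne'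
    refine not_sq h ht ?_ ((show t ^ 2 ∣ z * z by rw [pow_two]; exact Nat.mul_dvd_mul htz htz).trans h2)
    have := hzt t ht htz
    have := ht.two_le
    have : t ≠ 9 := by rintro rfl; exact absurd ht (by norm_num)
    omega

theorem card_mem {S : Type u} [Group S] (hs : Cfsg.IsSporadicGroup S ∨ Cfsg.Lie.IsoTits S) :
    Nat.card S ∈ spor.map (fun x => x.2) := by
  have key : ∀ (g : Grp), g ∈ spor.map (fun x => x.1) → Real g S → Nat.card S ∈ spor.map (fun x => x.2) :=
    fun g hg hr => by
      obtain ⟨x, hx, rfl⟩ := List.mem_map.1 hg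
      exact List.mem_map.2 ⟨x, hx, (table.spor S x hx hr).symm⟩
  rcases hs with h | h
  · rcases h with h | h | h | h | h | h | h | h | h | h | h | h | h | h | h | h | h | h | h | h | h | h | h | h | h | h
    · exact key .m11 (by decide) h
    · exact key .m12 (by decide) h
    · exact key .m22 (by decide) h
    · exact key .m23 (by decide) h
    · exact key .m24 (by decide) h
    · exact key .j1 (by decide) h
    · exact key .j2 (by decide) h
    · exact key .j3 (by decide) h
    · exact key .j4 (by decide) h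
    · exact key .co1 (by decide) h
    · exact key .co2 (by decide) h
    · exact key .co3 (by decide) h
    · exact key .mcl (by decide) h
    · exact key .hs (by decide) h
    · exact key .suz (by decide) h
    · exact key .he (by decide) h
    · exact key .ru (by decide) h
    · exact key .on (by decide) h
    · exact key .ly (by decide) h
    · exact key .fi22 (by decide) h
    · exact key .fi23 (by decide) h
    · exact key .fi24 (by decide) h
    · exact key .hn (by decide) h
    · exact key .th (by decide) h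
    · exact key .b (by decide) h
    · exact key .m (by decide) h
  · exact key .tits (by decide) h

theorem not_sporadic {S : Type u} [Group S] (hD : Dat n p f M d m (Nat.card S) I) (hn : 6 ≤ n) (hI : I ≤ 2)
    (hs : Cfsg.IsSporadicGroup S) : False := not_spor hD hn hI (card_mem (Or.inl hs))

theorem not_tits {S : Type u} [Group S] (hD : Dat n p f M d m (Nat.card S) I) (hn : 6 ≤ n) (hI : I ≤ 2)
    (hs : Cfsg.Lie.IsoTits S) : False := not_spor hD hn hI (card_mem (Or.inr hs))

end Cfsg.Agent.H370.DE
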